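import Groth.Agent.Lib.TorsLift22.Lift
import Groth.Agent.Lib.SubSpec19.Pieces
import Groth.Agent.Lib.GrpLaw19.Basic
import Groth.Agent.Lib.WeilEq.Represent
import Groth.Agent.Lib.GaPts.Basic
import Groth.Agent.Lib.AbRigid.FlatFibre
import Groth.Agent.Lib.AttrBorel21.AlmostSimple
import Groth.Agent.Lib.AttrBorel21.BorelDisc
import Groth.Agent.Lib.GrpGen20.BoundedNormal

/-!
# Torsion of smooth models and their component groups
-/

set_option autoImplicit false
set_option linter.style.haveILetI false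
set_option linter.unusedSectionVars false
set_option backward.isDefEq.respectTransparency false
set_option backward.isDefEq.respectTransparency.types false
universe u

open CategoryTheory CategoryTheory.Limits MonoidalCategory CartesianMonoidalCategory MonObj GrpObj AlgebraicGeometry

noncomputable section

namespace Groth.Agent.ModelTors19

variable {R : Type u} [CommRing R] [IsDomain R] {K : Type u} [Field K] [Algebra R K] [IsFractionRing R K]

/-- A flat separated group with commutative generic fibre is commutative. -/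
theorem isComm (G : Over (Spec (CommRingCat.of R))) [GrpObj G] [Flat G.hom] [IsSeparated G.hom]
    (h : ∀ (T : Over (Spec (CommRingCat.of K))) (a b : T ⟶ Red.bc (Spec.map (CommRingCat.ofHom (algebraMap R K))) G),
      a * b = b * a) : IsCommMonObj G := by
  let et := Spec.map (CommRingCat.ofHom (algebraMap R K))
  haveI : Flat (G ⊗ G).hom := inferInstanceAs (Flat (pullback.fst G.hom G.hom ≫ G.hom))
  haveI : IsSchemeTheoreticallyDominant et :=
    WeilEq.isSchemeTheoreticallyDominant_SpecMap _ (IsFractionRing.injective R K)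
  have hc : fst G G * snd G G = snd G G * fst G G := by
    refine GrpLaw19.map_injective G et (G ⊗ G) ?_
    rw [map_mul, map_mul]
    exact h _ _ _
  constructor
  rw [show μ[G] = fst G G * snd G G by rw [Hom.mul_def, lift_fst_snd, Category.id_comp]]
  rw [MonObj.comp_mul, CartesianMonoidalCategory.braiding_hom_fst, CartesianMonoidalCategory.braiding_hom_snd]
  exact hc.symm

variable [HenselianLocalRing R] {G : Over (Spec (CommRingCat.of R))} [GrpObj G] [IsCommMonObj G]
  [Smooth G.hom] [IsSeparated G.hom] [QuasiCompact G.hom]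

local notation "κ" => IsLocalRing.ResidueField R
local notation "Gk" => Red.bc (Spec.map (CommRingCat.ofHom (IsLocalRing.residue R))) G
local notation "GK" => Red.bc (Spec.map (CommRingCat.ofHom (algebraMap R K))) G

variable (G) in
/-- Points of the special fibre with order prime to the residue characteristic. -/
def Tors (x : 𝟙_ (Over (Spec (CommRingCat.of (IsLocalRing.ResidueField R)))) ⟶
    Red.bc (Spec.map (CommRingCat.ofHom (IsLocalRing.residue R))) G) : Prop :=
  ∃ N : ℕ, IsUnit (N : R) ∧ x ^ N = 1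

/-- Torsion of order prime to the residue characteristic embeds in the generic fibre. -/
theorem exists_tors_map :
    ∃ f : (𝟙_ (Over (Spec (CommRingCat.of κ))) ⟶ Gk) → (𝟙_ (Over (Spec (CommRingCat.of K))) ⟶ GK),
      f 1 = 1 ∧ (∀ x y, Tors G x → Tors G y → f (x * y) = f x * f y) ∧
      (∀ x y, Tors G x → Tors G y → f x = f y → x = y) ∧ (∀ x (N : ℕ), IsUnit (N : R) → x ^ N = 1 → f x ^ N = 1) := by
  classical
  let c := Spec.map (CommRingCat.ofHom (IsLocalRing.residue R))
  let et := Spec.map (CommRingCat.ofHom (algebraMap R K))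
  haveI : Flat G.hom := inferInstance
  haveI : IsSchemeTheoreticallyDominant et :=
    WeilEq.isSchemeTheoreticallyDominant_SpecMap _ (IsFractionRing.injective R K)
  let T0 : Over (Spec (CommRingCat.of R)) := Over.mk c
  let T1 : Over (Spec (CommRingCat.of R)) := Over.mk (𝟙 (Spec (CommRingCat.of R)))
  let TK : Over (Spec (CommRingCat.of R)) := Over.mk et
  let ψ : T0 ⟶ (Over.map c).obj (𝟙_ (Over (Spec (CommRingCat.of κ)))) := Over.homMk (𝟙 _) (by
    show 𝟙 _ ≫ 𝟙 _ ≫ c = c
    simp)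
  let Φ : (𝟙_ (Over (Spec (CommRingCat.of κ))) ⟶ Gk) →* (T0 ⟶ G) :=
    (GrpLaw19.precomp G ψ).comp (SubSpec19.bcPts c (G := G) (𝟙_ _)).symm.toMonoidHom
  let ψK : (Over.map et).obj (𝟙_ (Over (Spec (CommRingCat.of K)))) ⟶ TK := Over.homMk (𝟙 _) (by
    show 𝟙 _ ≫ et = 𝟙 _ ≫ et
    rfl)
  let ρ : T0 ⟶ T1 := Over.homMk c (Category.comp_id _)
  let j : TK ⟶ T1 := Over.homMk et (Category.comp_id _)
  let Ψ : (T1 ⟶ G) →* (𝟙_ (Over (Spec (CommRingCat.of K))) ⟶ GK) :=
    (SubSpec19.bcPts et (G := G) (𝟙_ _)).toMonoidHom.comp ((GrpLaw19.precomp G ψK).comp (GrpLaw19.precomp G j))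
  have hΦ : Function.Injective Φ := fun a b h => by
    refine (SubSpec19.bcPts c (G := G) (𝟙_ _)).symm.injective (Over.OverMorphism.ext ?_)
    have h' := congrArg CommaMorphism.left h
    simpa [Φ, GrpLaw19.precomp, ψ] using h'
  have hΨ : Function.Injective Ψ := fun a b h => by
    have h' := congrArg CommaMorphism.left ((SubSpec19.bcPts et (G := G) (𝟙_ _)).injective h)
    have h2 : et ≫ a.left = et ≫ b.left := by simpa [GrpLaw19.precomp, ψK, j] using h'
    exact Over.OverMorphism.ext (AbRigid.eq_of_comp_eq_of_ker_eq_bot et et.ker_eq_bot G.hom _ _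
      ((Over.w a).trans (Over.w b).symm) h2)
  have hlift : ∀ x, Tors G x → ∃ σ : T1 ⟶ G, ρ ≫ σ = Φ x ∧
      ∀ N : ℕ, IsUnit (N : R) → x ^ N = 1 → σ ^ N = 1 := by
    intro x ⟨N₀, hN₀, hx₀⟩
    obtain ⟨σ, ⟨hσN, hσ⟩, huniq⟩ := TorsLift22.existsUnique_lift hN₀ (Φ x) (by rw [← map_pow, hx₀, map_one])
    refine ⟨σ, hσ, fun N hN hx => ?_⟩
    obtain ⟨σ', ⟨hσ'N, hσ'⟩, -⟩ := TorsLift22.existsUnique_lift hN (Φ x) (by rw [← map_pow, hx, map_one])
    suffices σ = σ' by rw [this]; exact hσ'N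
    have hu : IsUnit ((N₀ * N : ℕ) : R) := by rw [Nat.cast_mul]; exact hN₀.mul hN
    refine TorsLift22.eq_of_res_eq hu (by rw [pow_mul, hσN, one_pow])
      (by rw [mul_comm, pow_mul, hσ'N, one_pow]) ?_
    exact congrArg CommaMorphism.left (hσ.trans hσ'.symm)
  choose! g hg hgN using hlift
  have hone : Tors G (1 : 𝟙_ (Over (Spec (CommRingCat.of κ))) ⟶ Gk) := ⟨1, by simp, one_pow _⟩
  refine ⟨fun x => Ψ (g x), ?_, fun x y hx hy => ?_, fun x y hx hy h => ?_, fun x N hN hx => ?_⟩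
  · have h1 := hgN 1 hone 1 (by simp) (one_pow _)
    rw [pow_one] at h1
    show Ψ (g 1) = 1
    rw [h1, map_one]
  · show Ψ (g (x * y)) = Ψ (g x) * Ψ (g y)
    rw [← map_mul]
    congr 1
    obtain ⟨Nx, hNx, hxN⟩ := hx
    obtain ⟨Ny, hNy, hyN⟩ := hy
    have hu : IsUnit ((Nx * Ny : ℕ) : R) := by rw [Nat.cast_mul]; exact hNx.mul hNy
    have hxy : (x * y) ^ (Nx * Ny) = 1 := by
      rw [mul_pow, pow_mul, hxN, one_pow, mul_comm Nx Ny, pow_mul, hyN, one_pow, _root_.one_mul]
    refine TorsLift22.eq_of_res_eq hu (hgN _ ⟨_, hu, hxy⟩ _ hu hxy) ?_ ?_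
    · rw [mul_pow, pow_mul, hgN x ⟨Nx, hNx, hxN⟩ _ hNx hxN, one_pow, mul_comm Nx Ny, pow_mul,
        hgN y ⟨Ny, hNy, hyN⟩ _ hNy hyN, one_pow, _root_.one_mul]
    · have h2 : ρ ≫ g (x * y) = ρ ≫ (g x * g y) := by
        rw [hg _ ⟨_, hu, hxy⟩, MonObj.comp_mul, hg x ⟨Nx, hNx, hxN⟩, hg y ⟨Ny, hNy, hyN⟩, map_mul]
      exact congrArg CommaMorphism.left h2
  · have h1 : g x = g y := hΨ h
    exact hΦ (by rw [← hg x hx, ← hg y hy, h1])
  · show Ψ (g x) ^ N = 1
    rw [← map_pow, hgN x ⟨N, hN, hx⟩ N hN hx, map_one]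

section Translate

variable {k : Type u} [Field k] {H : Over (Spec (CommRingCat.of k))} [GrpObj H]

/-- Two points in the same connected component. -/
def SameComp (x y : 𝟙_ (Over (Spec (CommRingCat.of k))) ⟶ H) : Prop :=
  y.left (IsLocalRing.closedPoint k) ∈ connectedComponent (x.left (IsLocalRing.closedPoint k))

theorem SameComp.mul_left {x y : 𝟙_ (Over (Spec (CommRingCat.of k))) ⟶ H} (h : SameComp x y)
    (g : 𝟙_ (Over (Spec (CommRingCat.of k))) ⟶ H) : SameComp (g * x) (g * y) := by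
  let L : H ⟶ H := lift (toUnit H ≫ g) (𝟙 H) ≫ μ[H]
  have hL : ∀ a : 𝟙_ (Over (Spec (CommRingCat.of k))) ⟶ H, (g * a).left = a.left ≫ L.left := fun a => by
    have e : a ≫ L = g * a := by
      rw [comp_lift_assoc, Category.comp_id, toUnit_unique (a ≫ toUnit H) (𝟙 _) |> fun h => (by
        rw [← Category.assoc, h, Category.id_comp] : a ≫ toUnit H ≫ g = g), ← Hom.mul_def]
    rw [← e, Over.comp_left]
  unfold SameComp
  rw [hL, hL, Scheme.Hom.comp_apply, Scheme.Hom.comp_apply]
  exact L.left.continuous.image_connectedComponent_subset _ ⟨_, h, rfl⟩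

theorem sameComp_mul_left_iff (g x y : 𝟙_ (Over (Spec (CommRingCat.of k))) ⟶ H) :
    SameComp (g * x) (g * y) ↔ SameComp x y := by
  refine ⟨fun h => ?_, fun h => h.mul_left g⟩
  simpa using h.mul_left g⁻¹

theorem SameComp.symm {x y : 𝟙_ (Over (Spec (CommRingCat.of k))) ⟶ H} (h : SameComp x y) : SameComp y x := by
  unfold SameComp at h ⊢
  rw [← connectedComponent_eq h]
  exact mem_connectedComponent

/-- A point in the component of the identity comes from an open connected subgroup. -/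
theorem exists_lift_component [IsAlgClosed k] [LocallyOfFiniteType H.hom] {B : Over (Spec (CommRingCat.of k))} [GrpObj B] (j : B ⟶ H) [IsMonHom j]
    [IsOpenImmersion j.left] [ConnectedSpace B.left] (x : 𝟙_ (Over (Spec (CommRingCat.of k))) ⟶ H) :
    SameComp 1 x ↔ ∃ b : 𝟙_ (Over (Spec (CommRingCat.of k))) ⟶ B, b ≫ j = x := by
  let pt : Spec (CommRingCat.of k) := IsLocalRing.closedPoint k
  have hop : IsOpen (Set.range j.left) := j.left.isOpenEmbedding.isOpen_range
  have hcl : IsClosed (Set.range j.left) := AbRigid.isClosed_range_of_isOpen j hop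
  have he : (1 : 𝟙_ (Over (Spec (CommRingCat.of k))) ⟶ H).left pt ∈ Set.range j.left :=
    ⟨(1 : 𝟙_ (Over (Spec (CommRingCat.of k))) ⟶ B).left pt, by
      rw [← Scheme.Hom.comp_apply, ← Over.comp_left, MonObj.one_comp]⟩
  constructor
  · intro h
    have hx : x.left pt ∈ Set.range j.left :=
      (show IsClopen (Set.range j.left) from ⟨hcl, hop⟩).connectedComponent_subset he h
    have hr : Set.range x.left ⊆ Set.range j.left := by
      rintro _ ⟨z, rfl⟩
      rw [Subsingleton.elim (α := PrimeSpectrum k) z pt]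
      exact hx
    refine ⟨Over.homMk (IsOpenImmersion.lift j.left x.left hr) ?_, Over.OverMorphism.ext (IsOpenImmersion.lift_fac _ _ _)⟩
    rw [← Over.w j, IsOpenImmersion.lift_fac_assoc, Over.w]
  · rintro ⟨b, rfl⟩
    exact (isConnected_range j.left.continuous).isPreconnected.subset_connectedComponent he
      ⟨b.left pt, by rw [← Scheme.Hom.comp_apply, ← Over.comp_left]⟩

/-- The points of the additive group are uniquely divisible by invertible integers. -/
theorem ga_pow_bijective {n : ℕ} (hn : (n : k) ≠ 0) :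
    Function.Bijective (fun a : 𝟙_ (Over (Spec (CommRingCat.of k))) ⟶ Red.Ga (Spec (CommRingCat.of k)) => a ^ n) := by
  have hu : IsUnit ((n : ℕ) : Γ((𝟙_ (Over (Spec (CommRingCat.of k)))).left, ⊤)) := by
    have := (isUnit_iff_ne_zero.2 hn).map (Scheme.ΓSpecIso (CommRingCat.of k)).inv.hom
    rwa [map_natCast] at this
  obtain ⟨u, hu⟩ := hu
  have hpow : ∀ (a : 𝟙_ (Over (Spec (CommRingCat.of k))) ⟶ Red.Ga (Spec (CommRingCat.of k))) (m : ℕ),
      Red.gaFn (a ^ m) = (m : Γ((𝟙_ (Over (Spec (CommRingCat.of k)))).left, ⊤)) * Red.gaFn a := by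
    intro a m
    induction m with
    | zero => rw [pow_zero, GaPts.gaFn_one, Nat.cast_zero, zero_mul]
    | succ m ih => rw [pow_succ, GaPts.gaFn_mul, ih, Nat.cast_succ, add_mul, _root_.one_mul]
  refine ⟨fun a b h => GaPts.gaFn_injective ?_, fun a => ⟨GaPts.ptOfFn (↑u⁻¹ * Red.gaFn a), GaPts.gaFn_injective ?_⟩⟩
  · have h' := congrArg Red.gaFn h
    simp only [hpow, ← hu] at h'
    exact u.isUnit.mul_left_cancel h'
  · show Red.gaFn ((GaPts.ptOfFn (↑u⁻¹ * Red.gaFn a) : 𝟙_ (Over (Spec (CommRingCat.of k))) ⟶ _) ^ n) = Red.gaFn a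
    rw [hpow, GaPts.gaFn_ptOfFn, ← hu, Units.mul_inv_cancel_left]

end Translate

/-- The prime-to-`p` part of the component group of a model of the multiplicative group with unipotent
identity component is cyclic. -/
theorem exists_cyclic [IsAlgClosed κ] (e : GK ≅ Red.Gm (Spec (CommRingCat.of K))) [IsMonHom e.hom]
    (j₀ : Red.Ga (Spec (CommRingCat.of κ)) ⟶ Gk) [IsMonHom j₀] [IsOpenImmersion j₀.left] :
    ∃ x₀ : 𝟙_ (Over (Spec (CommRingCat.of κ))) ⟶ Gk, ∀ x : 𝟙_ (Over (Spec (CommRingCat.of κ))) ⟶ Gk,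
      ∃ n : ℕ, 0 < n ∧ SameComp 1 (x ^ n) ∧
        ∀ a m : ℕ, a * m = n → (m : κ) ≠ 0 → ∃ i : ℕ, SameComp (x₀ ^ i) (x ^ a) := by
  classical
  obtain ⟨-, -, hconn⟩ := AttrBorel21.smooth_affine_Ga κ
  haveI := hconn
  haveI : LocallyOfFiniteType (Red.bc (Spec.map (CommRingCat.ofHom (IsLocalRing.residue R))) G).hom :=
    inferInstanceAs (LocallyOfFiniteType (pullback.snd G.hom _))
  haveI : Mono j₀ := Over.mono_of_mono_left j₀
  obtain ⟨f, hf1, hfm, hfi, -⟩ := exists_tors_map (G := G) (K := K)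
  -- the finite set of components
  let c := Spec.map (CommRingCat.ofHom (IsLocalRing.residue R))
  haveI : QuasiCompact (Red.bc c G).hom := inferInstanceAs (QuasiCompact (pullback.snd G.hom c))
  haveI : CompactSpace (Red.bc c G).left := (quasiCompact_iff_compactSpace (Red.bc c G).hom).1 inferInstance
  haveI : IsLocallyNoetherian (Red.bc c G).left := LocallyOfFiniteType.isLocallyNoetherian (Red.bc c G).hom
  haveI : IsNoetherian (Red.bc c G).left := {}
  let cc : (𝟙_ (Over (Spec (CommRingCat.of κ))) ⟶ Gk) → Set (Red.bc c G).left := fun x =>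
    connectedComponent (x.left (IsLocalRing.closedPoint κ))
  have hfin : (Set.range cc).Finite :=
    (GrpGen20.finite_connectedComponents' (Red.bc c G).left).subset (by rintro _ ⟨x, rfl⟩; exact ⟨_, rfl⟩)
  -- the torsion subgroup
  let S : Subgroup (𝟙_ (Over (Spec (CommRingCat.of κ))) ⟶ Gk) :=
    { carrier := {x | Tors G x}
      one_mem' := ⟨1, by simp, one_pow _⟩
      mul_mem' := fun {x y} ⟨Nx, hNx, hxN⟩ ⟨Ny, hNy, hyN⟩ => ⟨Nx * Ny, by rw [Nat.cast_mul]; exact hNx.mul hNy, by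
        rw [mul_pow, pow_mul, hxN, one_pow, mul_comm Nx Ny, pow_mul, hyN, one_pow, _root_.one_mul]⟩
      inv_mem' := fun {x} ⟨N, hN, hxN⟩ => ⟨N, hN, by rw [inv_pow, hxN, inv_one]⟩ }
  have htriv : ∀ t, Tors G t → SameComp 1 t → t = 1 := by
    rintro t ⟨N, hN, htN⟩ ht
    obtain ⟨b, rfl⟩ := (exists_lift_component j₀ t).1 ht
    have hN' : (N : κ) ≠ 0 := by
      rw [← map_natCast (IsLocalRing.residue R)]
      exact (hN.map _).ne_zero
    rw [← MonObj.pow_comp, ← MonObj.one_comp j₀, cancel_mono] at htN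
    rw [(ga_pow_bijective hN').1 (htN.trans (one_pow N).symm), MonObj.one_comp]
  have hinj : Function.Injective (fun x : S => (⟨cc x.1, ⟨_, rfl⟩⟩ : Set.range cc)) := by
    intro x y h
    have h1 : SameComp x.1 y.1 := by
      show y.1.left _ ∈ connectedComponent _
      rw [show connectedComponent (x.1.left (IsLocalRing.closedPoint κ)) = cc y.1 from congrArg Subtype.val h]
      exact mem_connectedComponent
    refine Subtype.ext (inv_mul_eq_one.1 (htriv _ (S.mul_mem (S.inv_mem x.2) y.2) ?_))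
    have h2 := h1.mul_left x.1⁻¹
    rwa [inv_mul_cancel] at h2
  haveI : Finite (Set.range cc) := hfin.to_subtype
  haveI : Finite S := Finite.of_injective _ hinj
  let iK := (Scheme.ΓSpecIso (CommRingCat.of K)).hom
  let F : S →* K :=
    { toFun := fun x => iK (Red.gmFn (f x.1 ≫ e.hom))
      map_one' := by
        show iK (Red.gmFn (f 1 ≫ e.hom)) = 1
        rw [hf1, MonObj.one_comp, GmPts.gmFn_one, map_one]
      map_mul' := fun x y => by
        show iK (Red.gmFn (f (x.1 * y.1) ≫ e.hom)) = _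
        rw [hfm _ _ x.2 y.2, MonObj.mul_comp, GmPts.gmFn_mul, map_mul] }
  have hF : Function.Injective F := fun x y h => Subtype.ext (hfi _ _ x.2 y.2 ((cancel_mono e.hom).1
    (GmPts.gmFn_injective ((ConcreteCategory.bijective_of_isIso iK).1 h))))
  haveI : IsCyclic S := isCyclic_of_subgroup_isDomain F hF
  obtain ⟨g₀, hg₀⟩ := IsCyclic.exists_monoid_generator (α := S)
  refine ⟨g₀.1, fun x => ?_⟩
  -- the order in the component group
  obtain ⟨a₁, b₁, hab, hcab⟩ : ∃ a b : ℕ, a < b ∧ cc (x ^ a) = cc (x ^ b) := by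
    obtain ⟨a, b, hne, h⟩ := Finite.exists_ne_map_eq_of_infinite (fun i : ℕ => (⟨cc (x ^ i), ⟨_, rfl⟩⟩ : Set.range cc))
    rcases lt_or_gt_of_ne hne with hlt | hlt
    · exact ⟨a, b, hlt, congrArg Subtype.val h⟩
    · exact ⟨b, a, hlt, (congrArg Subtype.val h).symm⟩
  have hn : SameComp 1 (x ^ (b₁ - a₁)) := by
    refine (sameComp_mul_left_iff (x ^ a₁) _ _).1 ?_
    rw [_root_.mul_one, ← pow_add, Nat.add_sub_cancel' hab.le]
    show (x ^ b₁).left _ ∈ connectedComponent _
    rw [show connectedComponent ((x ^ a₁).left (IsLocalRing.closedPoint κ)) = cc (x ^ b₁) from hcab]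
    exact mem_connectedComponent
  refine ⟨b₁ - a₁, by omega, hn, fun a m hnm hm => ?_⟩
  obtain ⟨z, hz⟩ := (exists_lift_component j₀ _).1 hn
  obtain ⟨w, rfl⟩ := (ga_pow_bijective hm).2 z
  have hz' : (w ≫ j₀) ^ m = x ^ (b₁ - a₁) := (MonObj.pow_comp w m j₀).symm.trans hz
  have ht : Tors G ((w ≫ j₀)⁻¹ * x ^ a) := by
    refine ⟨m, ?_, ?_⟩
    · refine IsUnit.of_map (IsLocalRing.residue R) _ ?_
      rw [map_natCast]
      exact isUnit_iff_ne_zero.2 hm
    · rw [mul_pow, inv_pow, hz', ← pow_mul, hnm, inv_mul_cancel]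
  obtain ⟨i, hi⟩ := Submonoid.mem_powers_iff _ _ |>.1 (hg₀ ⟨_, ht⟩)
  refine ⟨i, ?_⟩
  have hi' : g₀.1 ^ i = (w ≫ j₀)⁻¹ * x ^ a := congrArg Subtype.val hi
  rw [hi']
  have h0 : SameComp (1 : 𝟙_ (Over (Spec (CommRingCat.of κ))) ⟶ Gk) (w ≫ j₀) := (exists_lift_component j₀ _).2 ⟨w, rfl⟩
  have h1 := h0.mul_left ((w ≫ j₀)⁻¹ * x ^ a)
  rwa [_root_.mul_one, mul_comm ((w ≫ j₀)⁻¹ * x ^ a) (w ≫ j₀), mul_inv_cancel_left] at h1

end Groth.Agent.ModelTors19
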