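import Groth.Agent.Lib.ModelTors19.Basic
import Groth.Agent.Lib.TorsLift22.Etale
import Groth.Agent.Lib.DivSub15.Basic
import Groth.Agent.Lib.GrpNeutral20.Smooth
import Groth.Agent.Lib.AbelGrp20.Main
import Groth.Agent.Lib.AbRigid.GrpTop

/-!
# Lifting component groups of commutative groups over algebraically closed fields
-/

set_option autoImplicit false
set_option linter.style.haveILetI false
set_option linter.unusedSectionVars false
set_option backward.isDefEq.respectTransparency false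
set_option backward.isDefEq.respectTransparency.types false
universe u

open CategoryTheory CategoryTheory.Limits MonoidalCategory CartesianMonoidalCategory MonObj GrpObj AlgebraicGeometry

noncomputable section

namespace Groth.Agent.ModelTors19

variable {k : Type u} [Field k] [IsAlgClosed k]

local notation "𝟭k" => 𝟙_ (Over (Spec (CommRingCat.of k)))

/-- A rational point in the image lifts to a rational point. -/
theorem exists_point_of_mem_range {X Y : Over (Spec (CommRingCat.of k))} [LocallyOfFiniteType X.hom]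
    [LocallyOfFiniteType Y.hom] (f : X ⟶ Y) (y : 𝟭k ⟶ Y)
    (h : y.left (IsLocalRing.closedPoint k) ∈ Set.range f.left) : ∃ x : 𝟭k ⟶ X, x ≫ f = y := by
  let pt : Spec (CommRingCat.of k) := IsLocalRing.closedPoint k
  haveI : JacobsonSpace X.left := LocallyOfFiniteType.jacobsonSpace X.hom
  let py : { p : Spec (CommRingCat.of k) ⟶ Y.left // p ≫ Y.hom = 𝟙 _ } := ⟨y.left, Over.w y⟩
  have hyc : IsClosed ({y.left pt} : Set Y.left) := (pointEquivClosedPoint Y.hom py).2
  obtain ⟨z, hz, hzc⟩ := nonempty_inter_closedPoints (Z := f.left ⁻¹' {y.left pt})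
    (by obtain ⟨z, hz⟩ := h; exact ⟨z, hz⟩) (hyc.preimage f.left.continuous).isLocallyClosed
  refine ⟨Over.homMk ((pointEquivClosedPoint X.hom).symm ⟨z, hzc⟩).1
    ((pointEquivClosedPoint X.hom).symm ⟨z, hzc⟩).2, ?_⟩
  let x : 𝟭k ⟶ X := Over.homMk ((pointEquivClosedPoint X.hom).symm ⟨z, hzc⟩).1
    ((pointEquivClosedPoint X.hom).symm ⟨z, hzc⟩).2
  have hx : x.left pt = z := congrArg Subtype.val ((pointEquivClosedPoint X.hom).apply_symm_apply ⟨z, hzc⟩)
  refine Over.OverMorphism.ext ?_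
  have e : (⟨(x ≫ f).left, Over.w _⟩ : { p : Spec (CommRingCat.of k) ⟶ Y.left // p ≫ Y.hom = 𝟙 _ }) = py := by
    refine (pointEquivClosedPoint Y.hom).injective (Subtype.ext ?_)
    show (x ≫ f).left pt = y.left pt
    rw [Over.comp_left, Scheme.Hom.comp_apply, hx]
    exact hz
  exact congrArg Subtype.val e

theorem SameComp.trans {H : Over (Spec (CommRingCat.of k))} {x y z : 𝟭k ⟶ H}
    (h₁ : SameComp x y) (h₂ : SameComp y z) : SameComp x z := by
  unfold SameComp at h₁ h₂ ⊢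
  rwa [connectedComponent_eq h₁]

theorem SameComp.refl {H : Over (Spec (CommRingCat.of k))} (x : 𝟭k ⟶ H) : SameComp x x :=
  mem_connectedComponent

variable {H : Over (Spec (CommRingCat.of k))} [GrpObj H]

theorem SameComp.one_mul {x y : 𝟭k ⟶ H} (hx : SameComp 1 x) (hy : SameComp 1 y) : SameComp 1 (x * y) := by
  have h := hy.mul_left x
  rw [_root_.mul_one] at h
  exact hx.trans h

theorem SameComp.one_inv {x : 𝟭k ⟶ H} (hx : SameComp 1 x) : SameComp 1 x⁻¹ := by
  have h := hx.mul_left x⁻¹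
  rw [_root_.mul_one, inv_mul_cancel] at h
  exact h.symm

theorem SameComp.one_pow {x : 𝟭k ⟶ H} (hx : SameComp 1 x) (n : ℕ) : SameComp 1 (x ^ n) := by
  induction n with
  | zero => rw [pow_zero]; exact SameComp.refl _
  | succ n ih => rw [pow_succ]; exact ih.one_mul hx

variable [IsCommMonObj H] [Smooth H.hom] [QuasiCompact H.hom]

omit [IsAlgClosed k] in
/-- The identity component as an open subgroup. -/
theorem exists_neutral :
    ∃ (B : Over (Spec (CommRingCat.of k))) (_ : GrpObj B) (j : B ⟶ H), IsMonHom j ∧ IsOpenImmersion j.left ∧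
      IsCommMonObj B ∧ Smooth B.hom ∧ QuasiCompact B.hom ∧ ConnectedSpace B.left := by
  haveI : Smooth ((⊤ : H.left.Opens).ι ≫ H.hom) := inferInstance
  obtain ⟨-, B, gB, j, hj1, hj2, hrange, hBs, hBq⟩ := GrpNeutral20.exists_openSubgroup H ⊤ (fun _ => trivial)
  haveI := hj1; haveI := hj2
  haveI : Mono j := Over.mono_of_mono_left j
  refine ⟨B, gB, j, hj1, hj2, AbelGrp20.isCommMonObj_of_mono j, hBs, hBq, ?_⟩
  let pt : Spec (CommRingCat.of k) := IsLocalRing.closedPoint k
  have hc : _root_.IsConnected (Set.range j.left) := by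
    rw [hrange]
    have e : SGA3x.neutralSet H = connectedComponentIn Set.univ (η[H].left pt) := by
      refine Set.Subset.antisymm ?_ ?_
      · refine Set.iUnion_subset fun p => ?_
        rw [Subsingleton.elim (α := PrimeSpectrum k) p pt]
        exact connectedComponentIn_mono _ (Set.subset_univ _)
      · refine Set.subset_iUnion_of_subset pt ?_
        rw [show H.hom.base ⁻¹' {(𝟙_ (Over (Spec (CommRingCat.of k)))).hom.base pt} = Set.univ from
          Set.eq_univ_of_forall fun z => Subsingleton.elim (α := PrimeSpectrum k) _ _]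
    rw [e]
    exact isConnected_connectedComponentIn_iff.2 (Set.mem_univ _)
  haveI : ConnectedSpace (Set.range j.left) := isConnected_iff_connectedSpace.1 hc
  exact j.left.isEmbedding.toHomeomorph.symm.surjective.connectedSpace j.left.isEmbedding.toHomeomorph.symm.continuous

/-- Points of the identity component are divisible by invertible integers. -/
theorem exists_root {n : ℕ} (hn : (n : k) ≠ 0) {c : 𝟭k ⟶ H} (hc : SameComp 1 c) :
    ∃ w, SameComp 1 w ∧ w ^ n = c := by
  obtain ⟨B, _, j, hj1, hj2, hBc, hBs, hBq, hBn⟩ := exists_neutral (H := H)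
  haveI := hj1; haveI := hj2; haveI := hBc; haveI := hBs; haveI := hBq; haveI := hBn
  haveI : IsSeparated B.hom := AbRigid.isSeparated_of_grpObj B
  obtain ⟨b, rfl⟩ := (exists_lift_component j c).1 hc
  have hu : IsUnit (n : Γ(Spec (CommRingCat.of k), ⊤)) := by
    have := (isUnit_iff_ne_zero.2 hn).map (Scheme.ΓSpecIso (CommRingCat.of k)).inv.hom
    rwa [map_natCast] at this
  haveI := TorsLift22.etale_pow B hu
  haveI := TorusIsog19.isMonHom_pow B n
  have hop : IsOpen (Set.range (𝟙 B ^ n).left) := (𝟙 B ^ n).left.isOpenMap.isOpen_range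
  have hcl : IsClosed (Set.range (𝟙 B ^ n).left) := AbRigid.isClosed_range_of_isOpen (𝟙 B ^ n) hop
  have hne : (Set.range (𝟙 B ^ n).left).Nonempty :=
    ⟨_, η[B].left (IsLocalRing.closedPoint k), rfl⟩
  have huniv := (show IsClopen (Set.range (𝟙 B ^ n).left) from ⟨hcl, hop⟩).eq_univ hne
  obtain ⟨v, hv⟩ := exists_point_of_mem_range (𝟙 B ^ n) b (huniv ▸ Set.mem_univ _)
  rw [TorusIsog19.comp_id_pow] at hv
  exact ⟨v ≫ j, (exists_lift_component j _).2 ⟨v, rfl⟩, by rw [← MonObj.pow_comp, hv]⟩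

/-- Points of the identity component are `q`-divisible up to `q`-power torsion. -/
theorem exists_root_torsion (q r : ℕ) {c : 𝟭k ⟶ H} (hc : SameComp 1 c) :
    ∃ (w : 𝟭k ⟶ H) (s : ℕ), SameComp 1 w ∧ (c * (w ^ q ^ r)⁻¹) ^ q ^ s = 1 := by
  obtain ⟨B, _, j, hj1, hj2, hBc, hBs, hBq, hBn⟩ := exists_neutral (H := H)
  haveI := hj1; haveI := hj2; haveI := hBc; haveI := hBs; haveI := hBq; haveI := hBn
  obtain ⟨b, rfl⟩ := (exists_lift_component j c).1 hc
  obtain ⟨s, hs⟩ := DivSub15.exists_eventually_divisible B q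
  obtain ⟨T', d, h', -, hd, -, hh'⟩ := hs r _ b
  haveI := hd
  obtain ⟨t, ht⟩ := d.left.surjective (IsLocalRing.closedPoint k)
  obtain ⟨v, hv⟩ := exists_point_of_mem_range (𝟙 B ^ q ^ (s + r)) (b ^ q ^ s) ⟨h'.left t, by
    rw [← Scheme.Hom.comp_apply, ← Over.comp_left, TorusIsog19.comp_id_pow, hh', ← MonObj.comp_pow,
      Over.comp_left, Scheme.Hom.comp_apply]
    exact congrArg _ ht⟩
  rw [TorusIsog19.comp_id_pow] at hv
  refine ⟨v ≫ j, s, (exists_lift_component j _).2 ⟨v, rfl⟩, ?_⟩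
  rw [mul_pow, inv_pow, ← pow_mul, ← pow_add, Nat.add_comm r s, ← MonObj.pow_comp v, hv, ← MonObj.pow_comp,
    mul_inv_cancel]

/-- The `q`-primary part of the component group lifts to `q`-primary torsion. -/
theorem exists_primary_lift (q r : ℕ) (x : 𝟭k ⟶ H) (hx : SameComp 1 (x ^ q ^ r)) :
    ∃ y, SameComp x y ∧ ∃ s : ℕ, y ^ q ^ s = 1 := by
  obtain ⟨w, s, hw, hws⟩ := exists_root_torsion q r hx
  refine ⟨x * w⁻¹, by simpa using hw.one_inv.mul_left x, r + s, ?_⟩
  rw [pow_add, pow_mul, mul_pow, inv_pow]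
  exact hws

/-- A point has an order modulo the identity component. -/
theorem exists_order (x : 𝟭k ⟶ H) : ∃ n : ℕ, 0 < n ∧ ∀ m, SameComp 1 (x ^ m) ↔ n ∣ m := by
  classical
  haveI : CompactSpace H.left := (quasiCompact_iff_compactSpace H.hom).1 inferInstance
  haveI : IsLocallyNoetherian H.left := LocallyOfFiniteType.isLocallyNoetherian H.hom
  haveI : IsNoetherian H.left := {}
  let cc : (𝟭k ⟶ H) → Set H.left := fun x => connectedComponent (x.left (IsLocalRing.closedPoint k))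
  haveI : Finite (Set.range cc) :=
    ((GrpGen20.finite_connectedComponents' H.left).subset (by rintro _ ⟨x, rfl⟩; exact ⟨_, rfl⟩)).to_subtype
  have hex : ∃ n, 0 < n ∧ SameComp 1 (x ^ n) := by
    obtain ⟨a, b, hne, h⟩ := Finite.exists_ne_map_eq_of_infinite (fun i : ℕ => (⟨cc (x ^ i), ⟨_, rfl⟩⟩ : Set.range cc))
    wlog hab : a < b generalizing a b
    · exact this b a hne.symm h.symm (by omega)
    refine ⟨b - a, by omega, (sameComp_mul_left_iff (x ^ a) _ _).1 ?_⟩
    rw [_root_.mul_one, ← pow_add, Nat.add_sub_cancel' hab.le]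
    show (x ^ b).left _ ∈ connectedComponent _
    rw [show connectedComponent ((x ^ a).left (IsLocalRing.closedPoint k)) = cc (x ^ b) from congrArg Subtype.val h]
    exact mem_connectedComponent
  refine ⟨Nat.find hex, (Nat.find_spec hex).1, fun m => ⟨fun hm => ?_, ?_⟩⟩
  · rw [Nat.dvd_iff_mod_eq_zero]
    by_contra hne
    have h0 : SameComp 1 (x ^ (m % Nat.find hex)) := by
      refine (sameComp_mul_left_iff (x ^ (Nat.find hex * (m / Nat.find hex))) _ _).1 ?_
      rw [_root_.mul_one, ← pow_add, Nat.div_add_mod]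
      have h := (Nat.find_spec hex).2.one_pow (m / Nat.find hex)
      rw [← pow_mul] at h
      exact h.symm.trans hm
    exact Nat.find_min hex (Nat.mod_lt _ (Nat.find_spec hex).1) ⟨by omega, h0⟩
  · rintro ⟨t, rfl⟩
    rw [pow_mul]
    exact (Nat.find_spec hex).2.one_pow t

/-- A point of exact order prime to the characteristic lifts to a torsion point of the same order. -/
theorem exists_split_of_coprime {a : ℕ} (ha : (a : k) ≠ 0) (x : 𝟭k ⟶ H)
    (hx : ∀ m, SameComp 1 (x ^ m) ↔ a ∣ m) : ∃ y, SameComp x y ∧ y ^ a = 1 := by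
  obtain ⟨w, hw, hwa⟩ := exists_root ha ((hx a).2 dvd_rfl)
  exact ⟨x * w⁻¹, by simpa using hw.one_inv.mul_left x, by rw [mul_pow, inv_pow, hwa, mul_inv_cancel]⟩

/-- Reduction is split as soon as it is split on the `p`-part. -/
theorem exists_split (p : ℕ) [Fact p.Prime] [CharP k p]
    (hp : ∀ x : 𝟭k ⟶ H, (∃ r : ℕ, SameComp 1 (x ^ p ^ r)) → ∃ y, SameComp x y ∧ ∀ n, y ^ n = 1 ↔ SameComp 1 (x ^ n))
    (x : 𝟭k ⟶ H) : ∃ y, SameComp x y ∧ ∀ n, y ^ n = 1 ↔ SameComp 1 (x ^ n) := by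
  obtain ⟨n, hn0, hn⟩ := exists_order x
  obtain ⟨r, a, hpa, rfl⟩ := Nat.exists_eq_pow_mul_and_not_dvd hn0.ne' p (Fact.out : p.Prime).ne_one
  have ha : (a : k) ≠ 0 := fun h => hpa ((CharP.cast_eq_zero_iff k p a).1 h)
  obtain ⟨y₁, hy₁, hy₁n⟩ := hp (x ^ a) ⟨r, by rw [← pow_mul, hn, mul_comm]⟩
  obtain ⟨y₂, hy₂, hy₂n⟩ := exists_split_of_coprime ha (x ^ p ^ r) fun m => by
    rw [← pow_mul, hn, Nat.mul_dvd_mul_iff_left (pow_pos (Fact.out : p.Prime).pos r)]
  have hy₁' : y₁ ^ p ^ r = 1 := (hy₁n _).2 (by rw [← pow_mul, hn, mul_comm])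
  have hcop : Nat.Coprime a (p ^ r) :=
    (((Fact.out : p.Prime).coprime_iff_not_dvd.2 hpa).symm).pow_right r
  have he : ∃ u v : ℕ, ∃ t : ℕ, u * a + v * p ^ r = 1 + t * (p ^ r * a) := by
    rcases eq_or_ne (p ^ r) 1 with h1 | h1
    · exact ⟨0, 1, 0, by rw [h1]; ring⟩
    have hlt : 1 < p ^ r := by have := pow_pos (Fact.out : p.Prime).pos r; omega
    obtain ⟨u, -, hu⟩ := Nat.exists_mul_mod_eq_one_of_coprime hcop hlt
    have hd := Nat.div_add_mod (a * u) (p ^ r)
    rw [hu] at hd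
    refine ⟨u, (a * u / p ^ r) * (a - 1), a * u / p ^ r, ?_⟩
    obtain ⟨a', rfl⟩ : ∃ a', a = a' + 1 := ⟨a - 1, by have := Nat.pos_of_ne_zero (fun h => ha (by rw [h]; simp) : a ≠ 0); omega⟩
    rw [Nat.add_sub_cancel]
    generalize (a' + 1) * u / p ^ r = d at hd
    nlinarith
  obtain ⟨u, v, t, huv⟩ := he
  have hy : SameComp x (y₁ ^ u * y₂ ^ v) := by
    have h1 : SameComp 1 ((x ^ a)⁻¹ * y₁) := by simpa using hy₁.mul_left (x ^ a)⁻¹
    have h2 : SameComp 1 ((x ^ p ^ r)⁻¹ * y₂) := by simpa using hy₂.mul_left (x ^ p ^ r)⁻¹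
    have h3 : SameComp 1 (x ^ (t * (p ^ r * a))) := (hn _).2 (dvd_mul_left _ _)
    have h4 := ((h3.one_mul (h1.one_pow u)).one_mul (h2.one_pow v)).mul_left x
    rw [_root_.mul_one] at h4
    convert h4 using 1
    have e : x ^ (u * a) * x ^ (v * p ^ r) = x * x ^ (t * (p ^ r * a)) := by rw [← pow_add, huv, pow_add, pow_one]
    calc y₁ ^ u * y₂ ^ v = (x ^ (u * a) * x ^ (v * p ^ r)) * ((((x ^ a) ^ u)⁻¹ * y₁ ^ u) * (((x ^ p ^ r) ^ v)⁻¹ * y₂ ^ v)) := by
          rw [← pow_mul, ← pow_mul, mul_comm u a, mul_comm v (p ^ r)]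
          rw [mul_mul_mul_comm _ (y₁ ^ u), ← _root_.mul_assoc, ← _root_.mul_inv, mul_inv_cancel, _root_.one_mul]
      _ = _ := by rw [e, mul_pow, mul_pow, inv_pow, inv_pow]; simp [_root_.mul_assoc]
  refine ⟨_, hy, fun m => ⟨fun hm => ?_, fun hm => ?_⟩⟩
  · have h1 : SameComp 1 (x⁻¹ * (y₁ ^ u * y₂ ^ v)) := by simpa using hy.mul_left x⁻¹
    have h2 := (h1.one_pow m).one_inv
    rw [mul_pow, hm, _root_.mul_one, inv_pow, _root_.inv_inv] at h2
    exact h2
  · obtain ⟨b, rfl⟩ := (hn _).1 hm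
    have e1 : (y₁ ^ u) ^ (p ^ r * a * b) = 1 := by
      rw [← pow_mul, show u * (p ^ r * a * b) = p ^ r * (u * a * b) by ring, pow_mul, hy₁', _root_.one_pow]
    have e2 : (y₂ ^ v) ^ (p ^ r * a * b) = 1 := by
      rw [← pow_mul, show v * (p ^ r * a * b) = a * (v * p ^ r * b) by ring, pow_mul, hy₂n, _root_.one_pow]
    rw [mul_pow, e1, e2, _root_.one_mul]

end Groth.Agent.ModelTors19
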