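import Groth.Agent.Lib.AddModel19.Open
import Groth.Agent.Lib.Semiab15.Isog
import Groth.Agent.Lib.Semiab15.SubExt
import Groth.Agent.Lib.Semiab15.Apps
import Groth.Agent.Lib.Semiab15.Finite
import Groth.Agent.Lib.Semiab15.Chev
import Groth.Agent.Lib.UniStr23.Component
import Groth.Agent.S12181
import Groth.Agent.S15606

/-!
# Commutative groups without additive subgroups
-/

set_option autoImplicit false
set_option linter.style.haveILetI false
set_option linter.unusedSectionVars false
set_option backward.isDefEq.respectTransparency false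
set_option backward.isDefEq.respectTransparency.types false
universe u

open CategoryTheory CategoryTheory.Limits MonoidalCategory CartesianMonoidalCategory MonObj GrpObj AlgebraicGeometry
open scoped Polynomial

noncomputable section

namespace Groth.Agent.ModelTors19

variable {k : Type u} [Field k] [IsAlgClosed k] (p : ℕ) [Fact p.Prime] [CharP k p]

omit [IsAlgClosed k] in
/-- The points of a proper closed subset of the affine line are closed and hence finitely many. -/
theorem finite_of_ne_univ {C : Set (Red.Ga (Spec (CommRingCat.of k))).left} (hC : IsClosed C) (hne : C ≠ Set.univ) :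
    C.Finite := by
  obtain ⟨e⟩ := AddModel19.exists_iso_polynomial k
  haveI : IsIso e.hom.left := inferInstanceAs (IsIso ((Over.forget _).map e.hom))
  let h : (Red.Ga (Spec (CommRingCat.of k))).left ≃ₜ PrimeSpectrum k[X] := Scheme.homeoOfIso (asIso e.hom.left)
  let D : Set (PrimeSpectrum k[X]) := h '' C
  have hD : IsClosed D := h.isClosedMap C hC
  haveI : QuasiSober D := hD.isClosedEmbedding_subtypeVal.quasiSober
  suffices hfin : D.Finite from Set.Finite.of_finite_image hfin h.injective.injOn
  haveI : DiscreteTopology D := by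
    refine AddModel19.discrete_of_closed_points D fun a ha b hb hab => ?_
    by_contra hne'
    have hlt : a.asIdeal < b.asIdeal := lt_of_le_of_ne ((PrimeSpectrum.le_iff_specializes a b).2 hab)
      fun e' => hne' (PrimeSpectrum.ext e')
    have hbot : a.asIdeal = ⊥ := by
      by_contra hne''
      exact hlt.ne ((Ring.DimensionLEOne.maximalOfPrime hne'' a.isPrime).eq_of_le b.isPrime.ne_top hlt.le)
    refine hne ((Set.image_eq_image h.injective).1 ?_)
    rw [Set.image_univ, h.range_coe]
    refine Set.eq_univ_of_forall fun z => ?_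
    exact ((PrimeSpectrum.le_iff_specializes a z).1 (hbot.le.trans bot_le)).mem_closed hD ha
  haveI : CompactSpace D := isCompact_iff_compactSpace.1 hD.isCompact
  exact Set.finite_coe_iff.1 finite_of_compact_of_discrete

/-- A nontrivial homomorphism from the additive group gives an additive subgroup. -/
theorem exists_Ga_of_hom {U : Over (Spec (CommRingCat.of k))} [GrpObj U] [IsCommMonObj U]
    [LocallyOfFiniteType U.hom] [QuasiCompact U.hom] [IsAffine U.left]
    (a : Red.Ga (Spec (CommRingCat.of k)) ⟶ U) [IsMonHom a] (ha : a ≠ 1) :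
    ∃ j : Red.Ga (Spec (CommRingCat.of k)) ⟶ U, IsMonHom j ∧ IsClosedImmersion j.left := by
  let A' := Red.Ga (Spec (CommRingCat.of k))
  obtain ⟨hs, haff, hconn⟩ := AttrBorel21.smooth_affine_Ga k
  haveI := hs; haveI := haff; haveI := hconn
  haveI : IsCommMonObj A' := by
    refine ⟨?_⟩
    have e : (β_ A' A').hom ≫ μ[A'] = snd A' A' * fst A' A' := by
      rw [Hom.mul_def]
      congr 1
    rw [e]
    refine GaPts.gaFn_injective ?_
    show Red.gaFn (snd A' A' * fst A' A') = Red.gaFn μ[A']
    rw [MonObj.mul_eq_mul, GaPts.gaFn_mul, GaPts.gaFn_mul, add_comm]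
  haveI : LocallyOfFiniteType A'.hom := inferInstance
  haveI : QuasiCompact A'.hom := inferInstance
  obtain ⟨K, _, j, I, _, q, m, hj, hjc, hq, hm, hIc, hIl, hIq, hqf, hqs, -, hk, hmc, hqm⟩ := Semiab15.exists_image a
  haveI := hj; haveI := hjc; haveI := hq; haveI := hm; haveI := hIl; haveI := hIq; haveI := hqf; haveI := hqs
  haveI := hmc
  have hne : Set.range j.left ≠ Set.univ := by
    intro h
    haveI : Surjective j.left := ⟨Set.range_eq_univ.1 h⟩
    haveI : IsReduced A'.left := OrbitTop19.isReduced_of_smooth A'.hom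
    haveI : IsIso j.left := isIso_of_isClosedImmersion_of_surjective _
    haveI : IsIso ((Over.forget _).map j) := ‹IsIso j.left›
    haveI : IsIso j := isIso_of_reflects_iso j (Over.forget _)
    refine ha ?_
    rw [← hqm, show q = 1 from (cancel_epi j).1 (by rw [hk.w, MonObj.comp_one, Hom.one_def]), MonObj.one_comp]
  haveI : Finite K.left := by
    haveI := (finite_of_ne_univ j.left.isClosedEmbedding.isClosed_range hne).to_subtype
    exact Finite.of_injective (Set.rangeFactorization j.left) fun x y h =>
      j.left.isClosedEmbedding.injective (congrArg Subtype.val h)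
  haveI : LocallyOfFiniteType K.hom := by rw [← Over.w j]; infer_instance
  haveI : LocallyQuasiFinite K.hom := LocallyQuasiFinite.of_finite_preimage_singleton K.hom fun y => Set.toFinite _
  haveI : LocallyOfFiniteType q.left := by
    haveI : LocallyOfFiniteType (q.left ≫ I.hom) := by rw [Over.w]; infer_instance
    exact locallyOfFiniteType_of_comp q.left I.hom
  haveI : LocallyQuasiFinite q.left := GrpUnr20.locallyQuasiFinite_of_kernel q j hk inferInstance
  haveI : QuasiCompact q.left := Semiab15.qc_left q
  haveI : IsFinite q.left := AbRigid.isFinite_of_flat_of_locallyQuasiFinite A' I q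
  haveI : IsAffineHom (m.left) := inferInstance
  haveI : IsAffine I.left := isAffine_of_isAffineHom m.left
  obtain ⟨hIs, hIn⟩ : Smooth I.hom ∧ ConnectedSpace I.left := by
    refine ⟨?_, Function.Surjective.connectedSpace q.left.surjective q.left.continuous⟩
    haveI : LocallyOfFinitePresentation q.left := by
      haveI : IsLocallyNoetherian I.left := LocallyOfFiniteType.isLocallyNoetherian I.hom
      exact LocallyOfFinitePresentation.iff_locallyOfFiniteType.2 inferInstance
    refine AlgSpDescent.smooth_of_fppf_comp q.left I.hom inferInstance inferInstance inferInstance ?_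
    rw [Over.w]; infer_instance
  haveI := hIs; haveI := hIn
  obtain ⟨e⟩ := Groth.Agent.S15606.result k I q
  let i : A' ⟶ I := e.inv.hom.hom
  haveI : IsMonHom i := e.inv.hom.isMonHom_hom
  haveI : IsIso i := ⟨e.hom.hom.hom, congrArg (fun f => f.hom.hom) e.inv_hom_id, congrArg (fun f => f.hom.hom) e.hom_inv_id⟩
  haveI : IsIso i.left := inferInstanceAs (IsIso ((Over.forget _).map i))
  exact ⟨i ≫ m, inferInstance, inferInstanceAs (IsClosedImmersion (i.left ≫ m.left))⟩

include p in
/-- A nontrivial unipotent group contains an additive subgroup. -/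
theorem exists_Ga_closed {U : Over (Spec (CommRingCat.of k))} [GrpObj U] [IsCommMonObj U] [Smooth U.hom]
    [ConnectedSpace U.left] [IsAffine U.left] (hU : Red.HasNoSubtorus k U) (hne : 𝟙 U ≠ 1) :
    ∃ j : Red.Ga (Spec (CommRingCat.of k)) ⟶ U, IsMonHom j ∧ IsClosedImmersion j.left := by
  haveI : IsAffineHom U.hom := isAffineHom_of_isAffine _
  haveI : QuasiCompact U.hom := inferInstance
  obtain ⟨A, _, _, hA, e, he⟩ := UniStr23.exists_good_model (p := p) U hU
  haveI := he
  haveI := hA.ft
  let φ : k →ₐc[k] A := Bialgebra.unitBialgHom k A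
  have hinf : ¬ Module.Finite k (A ⧸ UniStr23.kerIdeal φ) := by
    intro hfin
    refine hne ?_
    have hb : UniStr23.kerIdeal φ = ⊥ := by
      have h0 : RingHom.ker (AlgHom.id k k) = ⊥ := by ext; simp [RingHom.mem_ker]
      simp [UniStr23.kerIdeal, h0]
    haveI : Module.Finite k A := Module.Finite.equiv
      ((Submodule.quotEquivOfEqBot _ hb).restrictScalars k)
    haveI : IsFinite (CoactBr.sp k A).hom :=
      (IsFinite.SpecMap_iff (CommRingCat.ofHom (algebraMap k A))).2 (RingHom.finite_algebraMap.2 ‹_›)
    haveI : IsIso e.inv.left := inferInstanceAs (IsIso ((Over.forget _).map e.inv))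
    haveI : IsFinite U.hom := by rw [← Over.w e.inv]; infer_instance
    exact Semiab15.trivial_of_finite_connected U
  obtain ⟨a, ha, hane, -⟩ := UniStr23.exists_Ga hA φ hinf
  haveI := ha
  obtain ⟨w, hw, -⟩ := Groth.Agent.S12181.result p (Spec (CommRingCat.of k))
  haveI := hw
  haveI : IsMonHom w.inv := inferInstance
  refine exists_Ga_of_hom (w.inv ≫ a ≫ e.hom) fun h => hane ?_
  rw [← cancel_mono e.hom, MonObj.one_comp]
  rw [← cancel_epi w.inv, h, MonObj.comp_one]

include p in
/-- Powers are surjective on a connected commutative group without additive subgroups. -/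
theorem surjective_pow_of_noGa (B : Over (Spec (CommRingCat.of k))) [GrpObj B] [IsCommMonObj B] [Smooth B.hom]
    [QuasiCompact B.hom] [ConnectedSpace B.left]
    (hGa : ∀ j : Red.Ga (Spec (CommRingCat.of k)) ⟶ B, IsMonHom j → IsClosedImmersion j.left → False)
    {n : ℕ} (hn : 0 < n) : Surjective (𝟙 B ^ n).left := by
  obtain ⟨N, I, _, m, π, hN, hm, hmc, hπ, hπm, hI⟩ := Semiab15.exists_pow_image p B
  haveI := hm; haveI := hmc; haveI := hπ
  haveI : Mono m := Over.mono_of_mono_left m
  haveI : IsSeparated B.hom := AbRigid.isSeparated_of_grpObj B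
  haveI := AbelGrp20.isCommMonObj_of_mono m
  haveI : LocallyOfFiniteType I.hom := by rw [← Over.w m]; infer_instance
  haveI : QuasiCompact I.hom := by rw [← Over.w m]; infer_instance
  haveI : Surjective π.left := by
    obtain ⟨-, hs⟩ := Semiab15.flat_surjective_pow hI hN
    haveI := hs
    have h : m ≫ π = 𝟙 I ^ N := by
      rw [← cancel_mono m, Category.assoc, hπm, Semiab15.pow_map, MonObj.comp_pow, Category.comp_id]
    haveI : Surjective (m.left ≫ π.left) := by rw [← Over.comp_left, h]; exact hs
    exact Surjective.of_comp m.left π.left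
  obtain ⟨K, _, j, I', _, q', m', hj, hjc, -, hm', -, hI'l, -, -, -, -, hk', hm'c, hqm⟩ := Semiab15.exists_image π
  haveI := hj; haveI := hjc; haveI := hm'; haveI := hm'c
  haveI : Mono m' := Over.mono_of_mono_left m'
  haveI : Mono j := Over.mono_of_mono_left j
  have hk : AlgGrp.IsKernel j π := by
    unfold AlgGrp.IsKernel at hk' ⊢
    rw [← hqm, ← IsMonHom.one_hom (f := m')]
    have h2 : IsPullback η[I'] (𝟙 _) m' (η[I'] ≫ m') :=
      IsPullback.of_vert_isIso_mono ⟨by simp⟩
    simpa using hk'.paste_vert h2
  haveI : LocallyOfFiniteType K.hom := by rw [← Over.w j]; infer_instance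
  haveI : QuasiCompact K.hom := by rw [← Over.w j]; infer_instance
  have hjN : j ^ N = 1 := by
    have h1 : j ^ N = j ≫ (π ≫ m) := by rw [hπm, MonObj.comp_pow, Category.comp_id]
    rw [h1, ← Category.assoc, hk.w, Category.assoc, IsMonHom.one_hom, MonObj.one_eq_one, MonObj.comp_one]
  haveI : IsFinite K.hom := by
    refine Semiab15.isFinite_of_subgroups K fun C _ c _ _ _ _ => ?_
    by_contra hne
    haveI : IsSeparated K.hom := AbRigid.isSeparated_of_grpObj K
    haveI : Mono c := Over.mono_of_mono_left c
    haveI : IsMonHom (c ≫ j) := inferInstance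
    haveI : IsClosedImmersion (c ≫ j).left := inferInstanceAs (IsClosedImmersion (c.left ≫ j.left))
    haveI : Mono (c ≫ j) := mono_comp c j
    haveI := AbelGrp20.isCommMonObj_of_mono (c ≫ j)
    haveI : QuasiCompact C.hom := by rw [← Over.w c]; infer_instance
    have hC : 𝟙 C ^ N = 1 := by
      rw [← cancel_mono (c ≫ j), Semiab15.pow_map, MonObj.one_comp, MonObj.comp_pow, Category.comp_id,
        ← MonObj.comp_pow, hjN, MonObj.comp_one]
    obtain ⟨B', _, b, A, _, q, hb, hbc, hB's, hB'n, hB'a, hq, hqf, hqs, hbq, hAp, hAs, hAc⟩ :=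
      Semiab15.exists_chevalley C
    haveI := hb; haveI := hbc; haveI := hq; haveI := hqf; haveI := hqs; haveI := hAp; haveI := hAs; haveI := hAc
    haveI := hB'a
    haveI : QuasiCompact q.left := Semiab15.qc_left q
    haveI := MTExt29.epi_of_cover q
    have hA : 𝟙 A = 1 := by
      obtain ⟨-, h1, h2⟩ := Semiab15.pow_av A hN
      haveI := h1; haveI := h2
      haveI : QuasiCompact (𝟙 A ^ N).left := Semiab15.qc_left _
      haveI := MTExt29.epi_of_cover (𝟙 A ^ N)
      refine Semiab15.id_eq_one_of_pow (n := N) ((cancel_epi q).1 ?_)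
      rw [← Semiab15.pow_map, hC, MonObj.one_comp, MonObj.comp_one]
    haveI : IsIso b := by
      have hq1 : q = 1 := by rw [← Category.comp_id q, hA, MonObj.comp_one]
      obtain ⟨u, hu⟩ := CharTorus15.exists_lift hbq (𝟙 C) (by rw [hq1, MonObj.comp_one])
      haveI : Mono b := Over.mono_of_mono_left b
      exact ⟨u, by rw [← cancel_mono b, Category.assoc, hu]; simp, hu⟩
    haveI : IsIso b.left := inferInstanceAs (IsIso ((Over.forget _).map b))
    haveI : IsAffine C.left := IsAffine.of_isIso (inv b.left)
    have hT : Red.HasNoSubtorus k C := by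
      intro T _ t _ _ hT
      have hTN : 𝟙 T ^ N = 1 := by
        rw [← cancel_mono t, Semiab15.pow_map, hC, MonObj.comp_one, MonObj.one_comp]
      obtain ⟨hl, hqc, -, -⟩ := Semiab15.torus_props hT
      haveI := hl; haveI := hqc
      have h1 := Semiab15.trivial_of_pow (Semiab15.isSA_of_isTorus T hT) hN hTN
      haveI := Semiab15.isIso_one_of_id h1
      haveI : IsIso η[T].left := inferInstanceAs (IsIso ((Over.forget _).map η[T]))
      show IsIso T.hom
      haveI : IsIso (η[T].left ≫ T.hom) := by rw [Over.w]; exact inferInstanceAs (IsIso (𝟙 _))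
      exact IsIso.of_isIso_comp_left η[T].left T.hom
    obtain ⟨g, hg, hgc⟩ := exists_Ga_closed p hT hne
    haveI := hg; haveI := hgc
    exact hGa (g ≫ c ≫ j) inferInstance (inferInstanceAs (IsClosedImmersion (g.left ≫ c.left ≫ j.left)))
  exact (Semiab15.flat_surjective_pow (Semiab15.isSA_of_isogeny π j hk hI) hn).2

end Groth.Agent.ModelTors19
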