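import Groth.Agent.Lib.ModelTors19.Lift
import Groth.Agent.Lib.ModelTors19.NoGa
import Groth.Agent.Lib.SpreadSub19.Basic
import Groth.Agent.Lib.BorelFix21.BaseChange

/-!
# Semistable groups have split reduction
-/

set_option autoImplicit false
set_option linter.style.haveILetI false
set_option linter.unusedSectionVars false
set_option backward.isDefEq.respectTransparency false
set_option backward.isDefEq.respectTransparency.types false
universe u

open CategoryTheory CategoryTheory.Limits MonoidalCategory CartesianMonoidalCategory MonObj GrpObj AlgebraicGeometry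

noncomputable section

namespace Groth.Agent.ModelTors19

/-- An additive subgroup of the special fibre gives one of the geometric fibre at the closed point. -/
theorem noGa_special {R : Type u} [CommRing R] [IsLocalRing R] {G : Over (Spec (CommRingCat.of R))} [GrpObj G]
    (h : SGA7.FibresUnipotentRankZero G)
    (j : Red.Ga (Spec (CommRingCat.of (IsLocalRing.ResidueField R))) ⟶
      Red.bc (Spec.map (CommRingCat.ofHom (IsLocalRing.residue R))) G) [IsMonHom j] [IsClosedImmersion j.left] : False := by
  let κ := IsLocalRing.ResidueField R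
  let c := Spec.map (CommRingCat.ofHom (IsLocalRing.residue R))
  let s : Spec (CommRingCat.of R) := c (IsLocalRing.closedPoint κ)
  let L := AlgebraicClosure ((Spec (CommRingCat.of R)).residueField s)
  let g : Spec (CommRingCat.of L) ⟶ Spec (CommRingCat.of R) := Red.geomPt s
  obtain ⟨φ, hφ⟩ : ∃ φ : CommRingCat.of R ⟶ CommRingCat.of L, Spec.map φ = g := ⟨Spec.preimage g, Spec.map_preimage g⟩
  have hpt : g (IsLocalRing.closedPoint L) = s := by
    show (Spec.map _ ≫ (Spec (CommRingCat.of R)).fromSpecResidueField s) _ = s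
    rw [Scheme.Hom.comp_apply]
    exact Scheme.fromSpecResidueField_apply _ _
  haveI : IsLocalHom φ.hom := ⟨fun r hr => by
    by_contra hu
    have h1 : r ∈ (s : PrimeSpectrum R).asIdeal := by
      show IsLocalRing.residue R r ∈ (IsLocalRing.closedPoint κ).asIdeal
      rw [(IsLocalRing.residue_eq_zero_iff r).2 ((IsLocalRing.mem_maximalIdeal r).2 hu)]
      exact zero_mem _
    rw [← hpt, ← hφ] at h1
    exact (IsLocalRing.mem_maximalIdeal _).1 h1 hr⟩
  let gam : Spec (CommRingCat.of L) ⟶ Spec (CommRingCat.of κ) :=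
    Spec.map (CommRingCat.ofHom (IsLocalRing.ResidueField.lift φ.hom))
  have hgam : gam ≫ c = g := by
    rw [← hφ, ← Spec.map_comp, ← CommRingCat.ofHom_comp, IsLocalRing.ResidueField.lift_comp_residue]
    rfl
  let bG := SpreadSub19.bcComp c gam hgam G
  haveI : IsMonHom bG.hom := SpreadSub19.bcComp_isMonHom _ _ _ G
  let q := Limits.IsTerminal.from specULiftZIsTerminal (Spec (CommRingCat.of κ))
  let bA := SpreadSub19.bcComp q gam
    (c := Limits.IsTerminal.from specULiftZIsTerminal (Spec (CommRingCat.of L)))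
    (Limits.IsTerminal.hom_ext specULiftZIsTerminal _ _) Red.GaZ
  haveI : IsMonHom bA.hom := SpreadSub19.bcComp_isMonHom _ _ _ Red.GaZ
  let jL := (Over.pullback gam).map j
  haveI : IsClosedImmersion jL.left := BorelFix21.isClosedImmersion_bc gam j
  haveI : IsIso bA.inv.left := inferInstanceAs (IsIso ((Over.forget _).map bA.inv))
  haveI : IsIso bG.hom.left := inferInstanceAs (IsIso ((Over.forget _).map bG.hom))
  exact h s (bA.inv ≫ jL ≫ bG.hom) inferInstance
    (inferInstanceAs (IsClosedImmersion (bA.inv.left ≫ jL.left ≫ bG.hom.left)))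

variable {k : Type u} [Field k] [IsAlgClosed k] {H : Over (Spec (CommRingCat.of k))} [GrpObj H] [IsCommMonObj H]
  [Smooth H.hom] [QuasiCompact H.hom]

/-- Without additive subgroups, every point of the component group lifts with the same order. -/
theorem exists_split_of_noGa
    (hGa : ∀ j : Red.Ga (Spec (CommRingCat.of k)) ⟶ H, IsMonHom j → IsClosedImmersion j.left → False)
    (x : 𝟙_ (Over (Spec (CommRingCat.of k))) ⟶ H) :
    ∃ y, SameComp x y ∧ ∀ n, y ^ n = 1 ↔ SameComp 1 (x ^ n) := by
  obtain ⟨n, hn0, hn⟩ := exists_order x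
  suffices hroot : ∃ w : 𝟙_ (Over (Spec (CommRingCat.of k))) ⟶ H, SameComp 1 w ∧ w ^ n = x ^ n by
    obtain ⟨w, hw, hwn⟩ := hroot
    have hxy : SameComp x (x * w⁻¹) := by simpa using hw.one_inv.mul_left x
    refine ⟨_, hxy, fun m => ⟨fun hm => ?_, fun hm => ?_⟩⟩
    · have h1 : SameComp 1 ((x * w⁻¹) ^ m * w ^ m) := by
        rw [hm, _root_.one_mul]; exact hw.one_pow m
      rwa [← mul_pow, inv_mul_cancel_right] at h1
    · obtain ⟨t, rfl⟩ := (hn m).1 hm
      rw [pow_mul, mul_pow, inv_pow, hwn, mul_inv_cancel, _root_.one_pow]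
  obtain ⟨p, hp⟩ := CharP.exists k
  rcases CharP.char_is_prime_or_zero k p with hprime | h0
  · haveI : Fact p.Prime := ⟨hprime⟩
    obtain ⟨B, _, j, hj, hjo, hBc, hBs, hBq, hBn⟩ := exists_neutral (H := H)
    haveI := hj; haveI := hjo; haveI := hBc; haveI := hBs; haveI := hBq; haveI := hBn
    haveI : IsClosedImmersion j.left :=
      IsClosedImmersion.iff_isPreimmersion.2 ⟨inferInstance, AbRigid.isClosed_range_of_isOpen j j.left.isOpenEmbedding.isOpen_range⟩
    obtain ⟨b, hb⟩ := (exists_lift_component j _).1 ((hn n).2 dvd_rfl)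
    have hsurj := surjective_pow_of_noGa p B (fun g hg hgc => by
      haveI := hg; haveI := hgc
      exact hGa (g ≫ j) inferInstance (inferInstanceAs (IsClosedImmersion (g.left ≫ j.left)))) hn0
    obtain ⟨v, hv⟩ := exists_point_of_mem_range (𝟙 B ^ n) b (hsurj.surj _)
    rw [TorusIsog19.comp_id_pow] at hv
    exact ⟨v ≫ j, (exists_lift_component j _).2 ⟨v, rfl⟩, by rw [← MonObj.pow_comp, hv, hb]⟩
  · subst h0
    haveI := CharP.charP_to_charZero k
    exact exists_root (Nat.cast_ne_zero.2 hn0.ne') ((hn n).2 dvd_rfl)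

end Groth.Agent.ModelTors19
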